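import Groth.Agent.L27.ProperDescent.Closed
import Groth.Agent.L27.EtGlue.Nested
import Groth.Agent.S2906
import Groth.Agent.L07.SyntOverField
import Groth.Agent.L23.AffineMor
import Groth.Agent.L23.LocalDimEtale
import Groth.Agent.L05.Henselization.StrictUniq
import Mathlib.AlgebraicGeometry.ZariskisMainTheorem

/-! Effective descent of finite etale covers along proper surjective morphisms. -/

set_option autoImplicit false
set_option linter.style.haveILetI false
set_option backward.isDefEq.respectTransparency.types false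

universe u

open CategoryTheory Limits AlgebraicGeometry Groth.L20.SchDesc Groth.L27.EtGlue

namespace Groth.L27.ProperDescent

variable {S' S : Scheme.{u}} {g : S' ⟶ S} {D : Desc.SchDDFam (fun _ : PUnit.{1} => g)}

local notation "res[" A "]" => Spec.map (CommRingCat.ofHom (IsLocalRing.residue A))

/-- effectivity over a field -/
theorem good_of_field [IsProper g] [Surjective g] [IsFinite (prj D)] [Etale (prj D)] (K : Type u) [Field K]
    (m : Spec (CommRingCat.of K) ⟶ S) : Good D m := by
  haveI : Flat (pullback.snd g m) := Groth.L07.SyntOverField.flat_over_field _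
  haveI : IsFinite (((Desc.SchDDFam.toSchDD _).obj (pull m D)).obj.hom) :=
    MorphismProperty.pullback_snd (P := @IsFinite) (prj D) (pullback.fst g m) inferInstance
  haveI : Etale (((Desc.SchDDFam.toSchDD _).obj (pull m D)).obj.hom) :=
    MorphismProperty.pullback_snd (P := @Etale) (prj D) (pullback.fst g m) inferInstance
  obtain ⟨U, -, -, h3, ⟨i⟩⟩ := Groth.Agent.S2906.result (pullback.snd g m) ((Desc.SchDDFam.toSchDD _).obj (pull m D))
  exact good_iff.1 ((etEffective_iff _).1 ⟨U, h3,
    ⟨(Desc.SchDDFam.oneEquiv.{0} (pullback.snd g m)).fullyFaithfulFunctor.preimageIso i⟩⟩)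

variable {A : Type u} [CommRing A] [HenselianLocalRing A]

/-- effectivity over a henselian local ring is seen on the closed fibre -/
theorem good_of_closedFibre [IsProper g] [Surjective g] [IsFinite (prj D)] [Etale (prj D)]
    (m : Spec (CommRingCat.of A) ⟶ S) (h : Good D (res[A] ≫ m)) : Good D m := by
  obtain ⟨t₀, ht₀, hκ₀, hc₀⟩ := h
  haveI := hκ₀
  haveI := ht₀
  let m₀ := res[A] ≫ m
  let cV := bc (toS D) res[A] (rfl : res[A] ≫ m = m₀)
  let cX := bc g res[A] (rfl : res[A] ≫ m = m₀)
  let cP := bc (prsToS D) res[A] (rfl : res[A] ≫ m = m₀)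
  have hV : IsPullback cV (pullback.snd (toS D) m₀) (pullback.snd (toS D) m) res[A] := isPullback_bc _ _ _
  have hX : IsPullback cX (pullback.snd g m₀) (pullback.snd g m) res[A] := isPullback_bc _ _ _
  have hP : IsPullback cP (pullback.snd (prsToS D) m₀) (pullback.snd (prsToS D) m) res[A] := isPullback_bc _ _ _
  haveI : IsFinite (fW D m) := MorphismProperty.of_isPullback (P := @IsFinite) (isPullback_fW m) inferInstance
  haveI : Etale (fW D m) := MorphismProperty.of_isPullback (P := @Etale) (isPullback_fW m) inferInstance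
  haveI : IsFinite (fW D m₀) := MorphismProperty.of_isPullback (P := @IsFinite) (isPullback_fW m₀) inferInstance
  haveI : IsProper (toS D) := inferInstanceAs (IsProper (prj D ≫ g))
  haveI : IsProper (prsToS D) := inferInstanceAs (IsProper (pullback.fst (toS D) g ≫ toS D))
  haveI : IsProper (pullback.snd (toS D) m) := inferInstance
  haveI : IsProper (pullback.snd (prsToS D) m) := inferInstance
  have hpb₀ : IsPullback (fW D m₀) t₀.q (pullback.snd g m₀) t₀.a :=
    IsPullback.of_iso (IsPullback.of_hasPullback (pullback.snd g m₀) t₀.a) (asIso t₀.κ).symm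
      (Iso.refl _) (Iso.refl _) (Iso.refl _)
      ((Category.comp_id _).trans ((IsIso.eq_inv_comp t₀.κ).2 (pullback.lift_fst _ _ _)))
      ((Category.comp_id _).trans ((IsIso.eq_inv_comp t₀.κ).2 (pullback.lift_snd _ _ _))) (by simp) (by simp)
  haveI : IsFinite t₀.a := MorphismProperty.of_isPullback_of_descendsAlong (P := @IsFinite)
    (Q := @Surjective ⊓ @Flat ⊓ @QuasiCompact) hpb₀
    ⟨⟨inferInstance, Groth.L07.SyntOverField.flat_over_field _⟩, inferInstance⟩ inferInstance
  -- the descended scheme over `A`
  haveI := Groth.Agent.S0240.result A (𝟙 (Spec (CommRingCat.of A)))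
  let ρ := pullback.fst (𝟙 (Spec (CommRingCat.of A))) res[A]
  let σ := pullback.snd (𝟙 (Spec (CommRingCat.of A))) res[A]
  haveI : IsIso σ := (IsPullback.of_hasPullback (𝟙 _) res[A]).isIso_snd_of_isIso
  let W₀ : FEt.Cat (pullback (𝟙 (Spec (CommRingCat.of A))) res[A]) :=
    MorphismProperty.Over.mk ⊤ (pullback.snd t₀.a σ) ⟨inferInstance, inferInstance⟩
  let W := (FEt.restrict ρ).objPreimage W₀
  let i : (FEt.restrict ρ).obj W ≅ W₀ := (FEt.restrict ρ).objObjPreimageIso W₀
  haveI : IsFinite W.hom := W.prop.1
  haveI : Etale W.hom := W.prop.2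
  let a : W.left ⟶ Spec (CommRingCat.of A) := W.hom
  haveI : IsFinite a := W.prop.1
  haveI : Etale a := W.prop.2
  let il : pullback a ρ ≅ pullback t₀.a σ := ((MorphismProperty.Over.forget _ _ _ ⋙ Over.forget _).mapIso i)
  have hil : il.hom ≫ pullback.snd t₀.a σ = pullback.snd a ρ := MorphismProperty.Over.w i.hom
  haveI : IsIso (pullback.fst t₀.a σ) := (IsPullback.of_hasPullback t₀.a σ).isIso_fst_of_isIso
  let e : pullback a ρ ≅ t₀.U := il ≪≫ asIso (pullback.fst t₀.a σ)
  let a₀ : t₀.U ⟶ W.left := e.inv ≫ pullback.fst a ρ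
  have hρσ : ρ = σ ≫ res[A] := by simpa using pullback.condition (f := 𝟙 (Spec (CommRingCat.of A))) (g := res[A])
  have ha₀ : IsPullback a₀ t₀.a a res[A] := by
    have hh : IsPullback (pullback.fst a ρ) (pullback.snd a ρ) a (σ ≫ res[A]) := hρσ ▸ IsPullback.of_hasPullback a ρ
    refine IsPullback.of_iso hh e (Iso.refl _) (asIso σ) (Iso.refl _) ?_ ?_ (by simp [a]) (by simp)
    · simp [a₀]
    · simp only [e, Iso.trans_hom, asIso_hom, Category.assoc, pullback.condition]
      rw [reassoc_of% hil]
  obtain ⟨q, hq, hcq⟩ := exists_lift_closed (pullback.snd (toS D) m) a hV (t₀.q ≫ a₀)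
    (by rw [Category.assoc, ha₀.w, reassoc_of% t₀.w, hV.w])
  let t : Tup D m := ⟨W.left, a, q, hq⟩
  refine ⟨t, (inferInstanceAs (Etale a)), ?_, ?_⟩
  · let T := pullback (pullback.snd g m) a
    let zT : T ⟶ Spec (CommRingCat.of A) := pullback.fst (pullback.snd g m) a ≫ pullback.snd g m
    let κ : pullback (toS D) m ⟶ T := t.κ
    have hκ1 : κ ≫ pullback.fst (pullback.snd g m) a = fW D m := t.κ_fst
    have hκ2 : κ ≫ pullback.snd (pullback.snd g m) a = q := t.κ_snd
    haveI : IsFinite (κ ≫ pullback.fst (pullback.snd g m) a) := hκ1.symm ▸ inferInstance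
    haveI : Etale (κ ≫ pullback.fst (pullback.snd g m) a) := hκ1.symm ▸ inferInstance
    haveI : IsFinite κ := IsFinite.of_comp κ (pullback.fst (pullback.snd g m) a)
    haveI : Etale κ := Etale.of_comp κ (pullback.fst (pullback.snd g m) a)
    haveI : IsProper zT := inferInstance
    refine isIso_of_closed zT κ ?_
    let r := pullback.fst zT res[A]
    let x : pullback zT res[A] ⟶ pullback g m₀ := hX.lift (r ≫ pullback.fst (pullback.snd g m) a)
      (pullback.snd zT res[A]) (by rw [Category.assoc]; exact pullback.condition)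
    let v : pullback zT res[A] ⟶ t₀.U := ha₀.lift (r ≫ pullback.snd (pullback.snd g m) a)
      (pullback.snd zT res[A]) (by
        rw [Category.assoc, ← pullback.condition (f := pullback.snd g m) (g := a)]; exact pullback.condition)
    let θ : pullback zT res[A] ⟶ pullback (toS D) m₀ := hpb₀.lift x v (by
      rw [hX.lift_snd, ha₀.lift_snd])
    have h1 : θ ≫ fW D m₀ = x := hpb₀.lift_fst _ _ _
    have h2 : θ ≫ t₀.q = v := hpb₀.lift_snd _ _ _
    have hθ : (θ ≫ cV) ≫ κ = r := by
      apply pullback.hom_ext
      · rw [Category.assoc, Category.assoc, hκ1, bc_fW, reassoc_of% h1, hX.lift_fst]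
      · rw [Category.assoc, Category.assoc, hκ2, hcq, reassoc_of% h2, ha₀.lift_fst]
    let s : pullback zT res[A] ⟶ pullback κ r := pullback.lift (θ ≫ cV) (𝟙 _) (by rw [Category.id_comp, hθ])
    refine ⟨⟨s, ?_, pullback.lift_snd _ _ _⟩⟩
    apply pullback.hom_ext
    · rw [Category.assoc, pullback.lift_fst, Category.id_comp]
      have hκz : κ ≫ zT = pullback.snd (toS D) m := by
        rw [← Category.assoc, hκ1, fW_snd]
      let u : pullback κ r ⟶ pullback (toS D) m₀ := hV.lift (pullback.fst κ r) (pullback.snd κ r ≫ pullback.snd zT res[A]) (by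
        rw [← hκz, reassoc_of% (pullback.condition (f := κ) (g := r)), Category.assoc, pullback.condition])
      have hu : pullback.snd κ r ≫ θ = u := by
        apply hpb₀.hom_ext
        · rw [Category.assoc, h1]
          apply hX.hom_ext
          · rw [Category.assoc, hX.lift_fst, ← reassoc_of% (pullback.condition (f := κ) (g := r)), hκ1, Category.assoc,
              ← bc_fW, hV.lift_fst_assoc]
          · rw [Category.assoc, hX.lift_snd, Category.assoc, fW_snd, hV.lift_snd]
        · rw [Category.assoc, h2]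
          apply ha₀.hom_ext
          · rw [Category.assoc, ha₀.lift_fst, ← reassoc_of% (pullback.condition (f := κ) (g := r)), hκ2, Category.assoc,
              ← hcq, hV.lift_fst_assoc]
          · rw [Category.assoc, ha₀.lift_snd, Category.assoc, t₀.w, hV.lift_snd]
      rw [← Category.assoc, hu, hV.lift_fst]
    · rw [Category.assoc, pullback.lift_snd, Category.comp_id, Category.id_comp]
  · rw [Tup.comm_iff]
    show p₂ D m ≫ q = p₁ D m ≫ q
    refine hom_ext_closed (pullback.snd (prsToS D) m) a (by rw [Category.assoc, hq, p₂_snd])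
      (by rw [Category.assoc, hq, p₁_snd]) hP ?_
    rw [reassoc_of% bc_p₂, reassoc_of% bc_p₁, hcq, ← Category.assoc, ← Category.assoc,
      (t₀.comm_iff).1 hc₀]
    simp only [a₀, Category.assoc]

end Groth.L27.ProperDescent

namespace Groth.L27.ProperDescent

variable {S' S : Scheme.{u}} {g : S' ⟶ S}

/-- proper surjective morphisms of finite presentation are effective for finite etale descent -/
theorem effective [IsProper g] [Surjective g] [LocallyOfFinitePresentation g]
    (D : Desc.SchDDFam (fun _ : PUnit.{1} => g)) [IsFinite (prj D)] [Etale (prj D)] :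
    EtEffective (preOf D) := by
  refine etEffective_of_forall_faithfullyFlat (Groth.L27.TopInv.univSubmersive_of_universallyClosed g) fun a => ?_
  obtain ⟨B, _, _, _, _, hB⟩ := Groth.L05.Henselization.exists_isHenselization (S.presheaf.stalk a)
  haveI := hB.henselian
  haveI := Groth.L05.Henselization.flat_of_isHenselization (S.presheaf.stalk a) B
  haveI := Groth.L05.Henselization.faithfullyFlat_of_flat_local (R := S.presheaf.stalk a) (S := B)
  let φ : S.presheaf.stalk a ⟶ CommRingCat.of B := CommRingCat.ofHom (algebraMap (S.presheaf.stalk a) B)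
  exact ⟨B, inferInstance, φ, RingHom.faithfullyFlat_algebraMap_iff.2 inferInstance,
    good_of_closedFibre _ (good_of_field _ _)⟩

/-- the descended scheme is finite etale -/
theorem exists_finite_etale [IsProper g] [Surjective g] [LocallyOfFinitePresentation g]
    (D : Desc.SchDD g) [IsFinite D.obj.hom] [Etale D.obj.hom] :
    ∃ U : Over S, IsFinite U.hom ∧ Etale U.hom ∧ Nonempty ((Desc.toDD g).obj U ≅ D) := by
  let E := Desc.SchDDFam.oneEquiv.{0} g
  let D₁ := E.inverse.obj D
  let i₁ : (Desc.SchDDFam.toSchDD g).obj D₁ ≅ D := E.counitIso.app D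
  haveI : IsFinite (prj D₁) := inferInstanceAs (IsFinite D.obj.hom)
  haveI : Etale (prj D₁) := inferInstanceAs (Etale D.obj.hom)
  obtain ⟨d⟩ := effective D₁
  have hg := Groth.L27.TopInv.univSubmersive_of_universallyClosed g
  let q : tot D₁ ⟶ d.U := d.q
  have hpb : IsPullback (prj D₁) q g d.a := d.isPullback
  haveI : Surjective q := MorphismProperty.of_isPullback (P := @Surjective) hpb inferInstance
  haveI : IsSeparated d.a := Groth.L27.SubDesc.isSeparated hpb hg inferInstance
  haveI : Etale d.a := d.etale
  haveI : QuasiCompact (q ≫ d.a) := hpb.w ▸ inferInstance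
  haveI : QuasiCompact d.a := Groth.L08.NormalQuot.quasiCompact_of_surjective q d.a
  haveI : UniversallyClosed (q ≫ d.a) := hpb.w ▸ inferInstance
  haveI : UniversallyClosed d.a := UniversallyClosed.of_comp_surjective q d.a
  haveI : IsProper d.a := ⟨⟩
  haveI : LocallyQuasiFinite d.a := Groth.L23.lqf_of_etale _
  obtain ⟨i⟩ := nonempty_iso_toDD _ d.toDescent
  exact ⟨Over.mk d.a, IsFinite.of_isProper_of_locallyQuasiFinite d.a, d.etale, ⟨i ≪≫ i₁⟩⟩

end Groth.L27.ProperDescent
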