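import Groth.Agent.S0240
import Groth.Prelude.Def_FEt

/-! Finite etale schemes over a proper scheme over a henselian ring are seen on the closed fibre. -/

set_option autoImplicit false
set_option linter.style.haveILetI false
set_option backward.isDefEq.respectTransparency.types false

universe u

open CategoryTheory CategoryTheory.Limits AlgebraicGeometry

namespace Groth.L27.ProperDescent

variable {A : Type u} [CommRing A] [HenselianLocalRing A]

local notation "res[" A "]" => Spec.map (CommRingCat.ofHom (IsLocalRing.residue A))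

variable {Z : Scheme.{u}} (z : Z ⟶ Spec (CommRingCat.of A)) [IsProper z]

section lift

variable {U : Scheme.{u}} (a : U ⟶ Spec (CommRingCat.of A)) [IsFinite a] [Etale a]

/-- the terminal cover -/
noncomputable abbrev one : FEt.Cat Z := MorphismProperty.Over.mk ⊤ (𝟙 Z) ⟨inferInstance, inferInstance⟩

/-- the constant family -/
noncomputable abbrev fam : FEt.Cat Z :=
  MorphismProperty.Over.mk ⊤ (pullback.fst z a) ⟨inferInstance, inferInstance⟩

/-- maps into a finite etale scheme agreeing on the closed fibre agree -/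
theorem hom_ext_closed {b b' : Z ⟶ U} (hb : b ≫ a = z) (hb' : b' ≫ a = z)
    {Z₀ : Scheme.{u}} {c : Z₀ ⟶ Z} {z₀ : Z₀ ⟶ Spec (CommRingCat.of (IsLocalRing.ResidueField A))}
    (hc : IsPullback c z₀ z res[A]) (h : c ≫ b = c ≫ b') : b = b' := by
  haveI := Groth.Agent.S0240.result A z
  have h' : pullback.fst z res[A] ≫ b = pullback.fst z res[A] ≫ b' := by
    rw [← cancel_epi hc.isoPullback.hom, hc.isoPullback_hom_fst_assoc, hc.isoPullback_hom_fst_assoc, h]
  let m : ∀ (x : Z ⟶ U), x ≫ a = z → (one (Z := Z) ⟶ fam z a) := fun x hx =>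
    MorphismProperty.Over.homMk (pullback.lift (𝟙 Z) x (by rw [Category.id_comp, hx]) : Z ⟶ pullback z a)
      (pullback.lift_fst _ _ _)
  have hm : m b hb = m b' hb' := by
    refine (FEt.restrict (pullback.fst z res[A])).map_injective ?_
    ext
    apply pullback.hom_ext
    · refine (pullback.lift_fst _ _ _).trans (Eq.trans ?_ (pullback.lift_fst _ _ _).symm)
      have e1 : pullback.fst (𝟙 Z) (pullback.fst z res[A]) = pullback.snd (𝟙 Z) (pullback.fst z res[A]) ≫ pullback.fst z res[A] := by
        simpa using pullback.condition (f := 𝟙 Z) (g := pullback.fst z res[A])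
      show pullback.fst (𝟙 Z) (pullback.fst z res[A]) ≫ (pullback.lift (𝟙 Z) b _ : Z ⟶ pullback z a) =
        pullback.fst (𝟙 Z) (pullback.fst z res[A]) ≫ (pullback.lift (𝟙 Z) b' _ : Z ⟶ pullback z a)
      apply pullback.hom_ext
      · simp only [Category.assoc, pullback.lift_fst]
      · simp only [Category.assoc, pullback.lift_snd]
        rw [e1, Category.assoc, Category.assoc, h']
    · exact (pullback.lift_snd _ _ _).trans (pullback.lift_snd _ _ _).symm
  have := congrArg (fun f : one (Z := Z) ⟶ fam z a => f.left ≫ pullback.snd z a) hm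
  exact ((pullback.lift_snd _ _ _).symm.trans this).trans (pullback.lift_snd _ _ _)

/-- maps into a finite etale scheme extend from the closed fibre -/
theorem exists_lift_closed {Z₀ : Scheme.{u}} {c : Z₀ ⟶ Z}
    {z₀ : Z₀ ⟶ Spec (CommRingCat.of (IsLocalRing.ResidueField A))}
    (hc : IsPullback c z₀ z res[A]) (b₀ : Z₀ ⟶ U) (hb₀ : b₀ ≫ a = c ≫ z) :
    ∃ b : Z ⟶ U, b ≫ a = z ∧ c ≫ b = b₀ := by
  haveI := Groth.Agent.S0240.result A z
  let r := pullback.fst z res[A]
  let b₁ : pullback z res[A] ⟶ U := hc.isoPullback.inv ≫ b₀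
  have hb₁ : b₁ ≫ a = r ≫ z := by
    rw [Category.assoc, hb₀, hc.isoPullback_inv_fst_assoc]
  let φ : pullback (𝟙 Z) r ⟶ pullback (pullback.fst z a) r :=
    pullback.lift (pullback.lift (pullback.snd (𝟙 Z) r ≫ r) (pullback.snd (𝟙 Z) r ≫ b₁)
      (by rw [Category.assoc, Category.assoc, hb₁])) (pullback.snd (𝟙 Z) r) (by rw [pullback.lift_fst])
  let φ' : (FEt.restrict r).obj (one (Z := Z)) ⟶ (FEt.restrict r).obj (fam z a) :=
    MorphismProperty.Over.homMk φ (pullback.lift_snd _ _ _)
  obtain ⟨m, hm⟩ := (FEt.restrict r).map_surjective φ'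
  let mb : Z ⟶ pullback z a := m.left
  have hmw : mb ≫ pullback.fst z a = 𝟙 Z := MorphismProperty.Over.w m
  refine ⟨mb ≫ pullback.snd z a, by rw [Category.assoc, ← pullback.condition, ← Category.assoc, hmw, Category.id_comp], ?_⟩
  let j : pullback z res[A] ⟶ pullback (𝟙 Z) r := pullback.lift r (𝟙 _) (by rw [Category.comp_id, Category.id_comp])
  have h1 : ((FEt.restrict r).map m).left ≫ pullback.fst (pullback.fst z a) r = pullback.fst (𝟙 Z) r ≫ mb :=
    pullback.lift_fst _ _ _
  have h2 : ((FEt.restrict r).map m).left = φ := congrArg (fun f => f.left) hm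
  rw [h2] at h1
  have hj1 : j ≫ pullback.fst (𝟙 Z) r = r := pullback.lift_fst _ _ _
  have hj2 : j ≫ pullback.snd (𝟙 Z) r = 𝟙 _ := pullback.lift_snd _ _ _
  have hφ : φ ≫ pullback.fst (pullback.fst z a) r ≫ pullback.snd z a = pullback.snd (𝟙 Z) r ≫ b₁ :=
    (pullback.lift_fst_assoc _ _ _ _).trans (pullback.lift_snd _ _ _)
  have h1' : φ ≫ pullback.fst (pullback.fst z a) r = pullback.fst (𝟙 Z) r ≫ mb := h1
  have h3 : r ≫ mb ≫ pullback.snd z a = b₁ := by
    rw [← reassoc_of% hj1, ← reassoc_of% h1', hφ, reassoc_of% hj2]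
  rw [← hc.isoPullback_hom_fst, Category.assoc]
  show hc.isoPullback.hom ≫ r ≫ mb ≫ pullback.snd z a = _
  rw [h3]
  exact hc.isoPullback.hom_inv_id_assoc _

end lift

/-- a finite etale map which is an isomorphism on the closed fibre is an isomorphism -/
theorem isIso_of_closed {V : Scheme.{u}} (h : V ⟶ Z) [IsFinite h] [Etale h]
    (hiso : IsIso (pullback.snd h (pullback.fst z res[A]))) : IsIso h := by
  haveI := Groth.Agent.S0240.result A z
  let r := pullback.fst z res[A]
  let K : FEt.Cat Z := MorphismProperty.Over.mk ⊤ h ⟨inferInstance, inferInstance⟩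
  let one' : FEt.Cat Z := MorphismProperty.Over.mk ⊤ (𝟙 Z) ⟨inferInstance, inferInstance⟩
  let φ : K ⟶ one' := MorphismProperty.Over.homMk h (Category.comp_id _)
  haveI : IsIso ((FEt.restrict r).map φ) := by
    haveI : IsIso ((FEt.restrict r).map φ).left := by
      have hcomp : ((FEt.restrict r).map φ).left ≫ pullback.snd (𝟙 Z) r = pullback.snd h r :=
        MorphismProperty.Over.w ((FEt.restrict r).map φ)
      let p : ((FEt.restrict r).obj one').left ⟶ pullback z res[A] := pullback.snd (𝟙 Z) r
      have hp : IsIso p := (IsPullback.of_hasPullback (𝟙 Z) r).isIso_snd_of_isIso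
      have hcp : IsIso (((FEt.restrict r).map φ).left ≫ p) := by rw [show _ ≫ p = _ from hcomp]; exact hiso
      exact IsIso.of_isIso_comp_right _ p
    haveI : IsIso ((MorphismProperty.Over.forget _ _ _ ⋙ Over.forget _).map ((FEt.restrict r).map φ)) := ‹_›
    exact isIso_of_reflects_iso _ (MorphismProperty.Over.forget _ _ _ ⋙ Over.forget _)
  haveI : IsIso φ := isIso_of_reflects_iso φ (FEt.restrict r)
  exact (inferInstance : IsIso ((MorphismProperty.Over.forget _ _ _ ⋙ Over.forget _).map φ))

end Groth.L27.ProperDescent
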